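import Groth.Agent.GrpSchLib.Affinization
import Groth.Agent.GrpSchLib.ImageFactor
import Groth.Agent.GrpSchLib.KernelPair
import Groth.Agent.GrpSchLib.KernelGrp
import Groth.Agent.GrpSchLib.IdentityComp
import Groth.Agent.GrpSchLib.HomFlatLft
import Groth.Agent.GrpSchLib.MonoSubgroup
import Groth.Agent.AmpleX.QAHom
import Groth.Agent.ConsPropLib.QuasiAffine
import Groth.Agent.EtFound.Descent
import Mathlib.AlgebraicGeometry.Morphisms.FlatMono

/-! A quasi-affine homomorphism of group schemes locally of finite type over a field is affine. -/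

set_option autoImplicit false
set_option backward.isDefEq.respectTransparency false
set_option backward.isDefEq.respectTransparency.types false

universe u

open CategoryTheory Limits AlgebraicGeometry MonoidalCategory CartesianMonoidalCategory MonObj

namespace Groth.Agent.GrpdQA

open GrpSchLib ConsPropLib

/-- A quasi-affine group scheme of finite type over a field is affine. -/
theorem isAffine_of_qa {k : Type u} [Field k] (N : Over (Spec (CommRingCat.of k))) [GrpObj N]
    [LocallyOfFiniteType N.hom] [QuasiCompact N.hom] [N.left.IsQuasiAffine] : IsAffine N.left := by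
  haveI := (Affinization.toSpecΓ_flat_surjective (G := N)).1
  haveI : IsIso N.left.toSpecΓ := (isIso_iff_isOpenImmersion_and_surjective _).2 ⟨inferInstance, inferInstance⟩
  exact IsAffine.of_isIso N.left.toSpecΓ

/-- A quasi-affine homomorphism of algebraic groups is affine. -/
theorem isAffineHom_algebraic {k : Type u} [Field k] {G H : Over (Spec (CommRingCat.of k))} [GrpObj G] [GrpObj H]
    [LocallyOfFiniteType G.hom] [LocallyOfFiniteType H.hom] [QuasiCompact G.hom] [QuasiCompact H.hom]
    (f : G ⟶ H) [IsMonHom f] (hf : qa f.left) : IsAffineHom f.left := by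
  obtain ⟨I, _, p, i, hp, hi, hpi, hic, hfl, hsu, hIl, hIq⟩ := ImageFactor.exists_image f
  haveI := hp; haveI := hic; haveI := hfl; haveI := hsu; haveI := hIl; haveI := hIq
  haveI := AntiAffine.isSeparated_grp I
  have hqp : qa p.left := by
    refine AmpleX.isQuasiAffine_of_comp p.left i.left ?_
    rw [← Over.comp_left, hpi]
    exact hf
  obtain ⟨N, _, j, _, hjc, _, hker⟩ := exists_kernel p
  haveI := hjc
  obtain ⟨e, he, hee⟩ := exists_kernelPair_iso j p hker
  haveI := he
  haveI : LocallyOfFiniteType N.hom := by rw [← Over.w j]; infer_instance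
  haveI : QuasiCompact N.hom := by rw [← Over.w j]; infer_instance
  have hN : qa N.hom := by
    have hsq : IsPullback j.left (toUnit N).left p.left η[I].left := hker.map (Over.forget _)
    have h := MorphismProperty.of_isPullback (P := qa.{u}) hsq hqp
    exact h
  haveI : N.left.IsQuasiAffine := (qa_iff_of_isAffine N.hom).1 hN
  haveI := isAffine_of_qa N
  haveI : IsAffineHom N.hom := isAffineHom_of_isAffine N.hom
  haveI : IsAffineHom (pullback.snd p.left p.left) := by
    rw [← MorphismProperty.cancel_left_of_respectsIso @IsAffineHom e, hee]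
    exact MorphismProperty.pullback_snd (P := @IsAffineHom) N.hom G.hom ‹_›
  haveI : QuasiCompact (p.left ≫ I.hom) := by rw [Over.w p]; infer_instance
  haveI : QuasiCompact p.left := QuasiCompact.of_comp p.left I.hom
  haveI := EtFound.fpqc_isAffineHom.{u}
  haveI : IsAffineHom p.left :=
    MorphismProperty.of_isPullback_of_descendsAlong (P := @IsAffineHom)
      (Q := @Surjective ⊓ @Flat ⊓ @QuasiCompact) (IsPullback.of_hasPullback p.left p.left).flip
      ⟨⟨inferInstance, inferInstance⟩, inferInstance⟩ ‹_›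
  rw [← hpi, Over.comp_left]
  infer_instance

theorem comp_rTrans {C : Type*} [Category C] [CartesianMonoidalCategory C] {T X : C} [GrpObj X]
    (x : T ⟶ X) (a : 𝟙_ C ⟶ X) : x ≫ (HomFlatLft.rTrans a).hom = x * (toUnit T ≫ a) := by
  simp only [HomFlatLft.rTrans, MonObj.comp_mul, Category.comp_id, ← Category.assoc, comp_toUnit]

/-- Over an algebraically closed field. -/
theorem isAffineHom_algClosed {K : Type u} [Field K] [IsAlgClosed K] {P Q : Over (Spec (CommRingCat.of K))}
    [GrpObj P] [GrpObj Q] [LocallyOfFiniteType P.hom] [LocallyOfFiniteType Q.hom]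
    (f : P ⟶ Q) [IsMonHom f] (hf : qa f.left) : IsAffineHom f.left := by
  haveI := AntiAffine.isSeparated_grp Q
  haveI : QuasiCompact f.left := hf.1
  obtain ⟨Q₀, _, incl, _, hincl, hinclf, -, -, hQ₀c⟩ := exists_identityComponent (G := Q)
  haveI := hincl; haveI := hinclf; haveI := hQ₀c
  haveI : IsLocallyNoetherian Q.left := LocallyOfFiniteType.isLocallyNoetherian Q.hom
  haveI : LocallyOfFinitePresentation incl.left := inferInstance
  haveI : IsOpenImmersion incl.left := IsOpenImmersion.of_flat_of_mono incl.left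
  haveI : Mono incl := (Over.forget _).mono_of_mono_map (inferInstanceAs (Mono incl.left))
  haveI : LocallyOfFiniteType Q₀.hom := by rw [← Over.w incl]; infer_instance
  haveI : QuasiCompact Q₀.hom := (quasiCompact_iff_compactSpace Q₀.hom).mpr hQ₀c
  let P₀ := pullback f incl
  let i : P₀ ⟶ P := pullback.fst f incl
  let f₀ : P₀ ⟶ Q₀ := pullback.snd f incl
  have hif : i ≫ f = f₀ ≫ incl := pullback.condition
  haveI : Mono i := inferInstance
  let η' : 𝟙_ _ ⟶ P₀ := pullback.lift η[P] η[Q₀] (by rw [IsMonHom.one_hom f, IsMonHom.one_hom incl])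
  let μ' : P₀ ⊗ P₀ ⟶ P₀ := pullback.lift ((fst P₀ P₀ ≫ i) * (snd P₀ P₀ ≫ i))
    ((fst P₀ P₀ ≫ f₀) * (snd P₀ P₀ ≫ f₀)) (by
      rw [MonObj.mul_comp, MonObj.mul_comp, Category.assoc, Category.assoc, Category.assoc, Category.assoc, hif])
  let ι' : P₀ ⟶ P₀ := pullback.lift i⁻¹ f₀⁻¹ (by rw [GrpObj.inv_comp, GrpObj.inv_comp, hif])
  obtain ⟨str, hi⟩ := exists_grpObj_of_mono i η' (pullback.lift_fst _ _ _) μ' (pullback.lift_fst _ _ _) ι'
    (pullback.lift_fst _ _ _)
  haveI := hi
  haveI : IsMonHom f₀ :=
    { one_hom := by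
        rw [← cancel_mono incl, Category.assoc, ← hif, ← Category.assoc, IsMonHom.one_hom i, IsMonHom.one_hom f,
          IsMonHom.one_hom incl]
      mul_hom := by
        rw [← cancel_mono incl, Category.assoc, ← hif, ← Category.assoc, IsMonHom.mul_hom i, Category.assoc,
          IsMonHom.mul_hom f, MonoidalCategory.tensorHom_comp_tensorHom_assoc, hif, Category.assoc,
          IsMonHom.mul_hom incl, MonoidalCategory.tensorHom_comp_tensorHom_assoc] }
  have hsq : IsPullback i.left f₀.left f.left incl.left :=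
    (IsPullback.of_hasPullback f incl).map (Over.forget _)
  have hqf₀ : qa f₀.left := MorphismProperty.of_isPullback (P := qa.{u}) hsq hf
  haveI : IsOpenImmersion i.left := MorphismProperty.of_isPullback (P := @IsOpenImmersion) hsq.flip ‹_›
  haveI : LocallyOfFiniteType P₀.hom := by rw [← Over.w i]; infer_instance
  haveI : QuasiCompact f₀.left := hqf₀.1
  haveI : QuasiCompact P₀.hom := by rw [← Over.w f₀]; infer_instance
  haveI h₀ : IsAffineHom f₀.left := isAffineHom_algebraic f₀ hqf₀
  haveI : JacobsonSpace P.left := LocallyOfFiniteType.jacobsonSpace P.hom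
  haveI : JacobsonSpace Q.left := LocallyOfFiniteType.jacobsonSpace Q.hom
  have hpt : ∀ {X : Over (Spec (CommRingCat.of K))} [LocallyOfFiniteType X.hom] (x : X.left), IsClosed {x} →
      ∃ a : 𝟙_ (Over (Spec (CommRingCat.of K))) ⟶ X, a.left (IsLocalRing.closedPoint K) = x := fun {X} _ x hx => by
    let s := (pointEquivClosedPoint X.hom).symm ⟨x, hx⟩
    exact ⟨Over.homMk s.1 s.2, congrArg Subtype.val ((pointEquivClosedPoint X.hom).apply_symm_apply ⟨x, hx⟩)⟩
  let J := 𝟙_ (Over (Spec (CommRingCat.of K))) ⟶ Q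
  let g : J → (Q₀.left ⟶ Q.left) := fun b => (incl ≫ (HomFlatLft.rTrans b).hom).left
  have hg : ∀ b, IsOpenImmersion (g b) := fun b => by
    haveI : IsIso (HomFlatLft.rTrans b).hom.left := ((Over.forget _).mapIso (HomFlatLft.rTrans b)).isIso_hom
    exact inferInstanceAs (IsOpenImmersion (incl.left ≫ (HomFlatLft.rTrans b).hom.left))
  have hgpt : ∀ b : J, g b (η[Q₀].left (IsLocalRing.closedPoint K)) = b.left (IsLocalRing.closedPoint K) := fun b => by
    have : η[Q₀] ≫ incl ≫ (HomFlatLft.rTrans b).hom = b := by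
      rw [← Category.assoc, IsMonHom.one_hom incl]
      simp only [HomFlatLft.rTrans, MonObj.comp_mul, Category.comp_id, ← Category.assoc, comp_toUnit,
        toUnit_unique (toUnit (𝟙_ (Over (Spec (CommRingCat.of K))))) (𝟙 _), Category.id_comp]
      rw [MonObj.one_eq_one, _root_.one_mul]
    exact congrArg (fun t => t (IsLocalRing.closedPoint K)) (congrArg CommaMorphism.left this)
  let 𝒰 : Q.left.OpenCover := Scheme.Cover.mkOfCovers J (fun _ => Q₀.left) g (fun y => by
    obtain ⟨x, hx, hxc⟩ := nonempty_inter_closedPoints (Z := closure ({y} : Set Q.left)) ⟨y, subset_closure rfl⟩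
      isClosed_closure.isLocallyClosed
    obtain ⟨b, hb⟩ := hpt x hxc
    haveI := hg b
    refine ⟨b, ?_⟩
    exact (specializes_iff_mem_closure.mpr hx).mem_open (g b).isOpenEmbedding.isOpen_range
      (hb ▸ hgpt b ▸ ⟨_, rfl⟩)) hg
  refine (IsZariskiLocalAtTarget.iff_of_openCover (P := @IsAffineHom) 𝒰).2 fun (b : J) => ?_
  show IsAffineHom (pullback.snd f.left (g b))
  by_cases hne : Nonempty ↥(pullback f.left (g b))
  · haveI := hg b
    obtain ⟨z⟩ := hne
    obtain ⟨x, hx, hxc⟩ := nonempty_inter_closedPoints (Z := f.left ⁻¹' Set.range (g b))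
      ⟨pullback.fst f.left (g b) z, pullback.snd f.left (g b) z, by
        rw [← Scheme.Hom.comp_apply, ← pullback.condition, Scheme.Hom.comp_apply]⟩
      ((g b).isOpenEmbedding.isOpen_range.preimage f.left.continuous).isLocallyClosed
    obtain ⟨a, ha⟩ := hpt x hxc
    obtain ⟨u, hu⟩ := hx
    -- `u` is a rational point of `Q₀`
    haveI : JacobsonSpace Q₀.left := LocallyOfFiniteType.jacobsonSpace Q₀.hom
    have huc : IsClosed ({u} : Set Q₀.left) := by
      have hfx : IsClosed ({f.left x} : Set Q.left) := by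
        rw [← ha]
        exact (pointEquivClosedPoint Q.hom ⟨(a ≫ f).left, Over.w (a ≫ f)⟩).2
      have := hfx.preimage (g b).continuous
      rwa [← hu, ← Set.image_singleton, Set.preimage_image_eq _ (g b).isOpenEmbedding.injective] at this
    obtain ⟨c, hc⟩ := hpt u huc
    have hfa : a ≫ f = (c ≫ incl) * b := by
      apply Over.OverMorphism.ext
      have h1 : ((c ≫ incl) * b) = c ≫ incl ≫ (HomFlatLft.rTrans b).hom := by
        simp only [HomFlatLft.rTrans, MonObj.comp_mul, Category.comp_id, ← Category.assoc, comp_toUnit,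
          toUnit_unique (toUnit (𝟙_ (Over (Spec (CommRingCat.of K))))) (𝟙 _), Category.id_comp]
      rw [h1]
      exact ext_of_apply_closedPoint_eq Q.hom (Over.w _) (Over.w _) (by
        show f.left (a.left _) = g b (c.left _)
        rw [ha, hc, hu])
    -- `g b` is `g (a ≫ f)` up to an automorphism of `Q₀`
    let e := HomFlatLft.rTrans c⁻¹
    have he : g b = e.hom.left ≫ g (a ≫ f) := by
      show (incl ≫ (HomFlatLft.rTrans b).hom).left = (e.hom ≫ incl ≫ (HomFlatLft.rTrans (a ≫ f)).hom).left
      congr 1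
      have he1 : e.hom = 𝟙 Q₀ * (toUnit Q₀ ≫ c⁻¹) := rfl
      rw [comp_rTrans, ← Category.assoc, comp_rTrans, hfa, he1, MonObj.mul_comp, Category.id_comp,
        Category.assoc, GrpObj.inv_comp, MonObj.comp_mul, _root_.mul_assoc, GrpObj.comp_inv, inv_mul_cancel_left]
    let S := HomFlatLft.rTrans a
    haveI : IsIso S.hom.left := ((Over.forget _).mapIso S).isIso_hom
    haveI : IsIso (HomFlatLft.rTrans (a ≫ f)).hom.left :=
      ((Over.forget _).mapIso (HomFlatLft.rTrans (a ≫ f))).isIso_hom
    have hsq' : IsPullback (i.left ≫ S.hom.left) f₀.left f.left (g (a ≫ f)) :=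
      hsq.paste_horiz (IsPullback.of_horiz_isIso ⟨congrArg CommaMorphism.left (HomFlatLft.rTrans_comm f a)⟩)
    haveI : IsAffineHom (pullback.snd f.left (g (a ≫ f))) := by
      rw [← MorphismProperty.cancel_left_of_respectsIso @IsAffineHom hsq'.isoPullback.hom, hsq'.isoPullback_hom_snd]
      exact h₀
    rw [he, ← MorphismProperty.cancel_left_of_respectsIso @IsAffineHom
      (pullbackLeftPullbackSndIso f.left (g (a ≫ f)) e.hom.left).hom, pullbackLeftPullbackSndIso_hom_snd]
    exact MorphismProperty.pullback_snd (P := @IsAffineHom) _ _ ‹_›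
  · rw [not_nonempty_iff] at hne
    haveI := AntiAffine.isSeparated_grp Q₀
    haveI : IsSeparated (pullback.snd f.left (g b) ≫ Q₀.hom) := inferInstance
    haveI : IsAffineHom (pullback.snd f.left (g b) ≫ Q₀.hom) := isAffineHom_of_isAffine _
    exact IsAffineHom.of_comp _ Q₀.hom

/-- Over an arbitrary field. -/
theorem isAffineHom_of_qa {k : Type u} [Field k] {P Q : Over (Spec (CommRingCat.of k))} [GrpObj P] [GrpObj Q]
    [LocallyOfFiniteType P.hom] [LocallyOfFiniteType Q.hom] (f : P ⟶ Q) [IsMonHom f] (hf : qa f.left) :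
    IsAffineHom f.left := by
  let K : Type u := AlgebraicClosure k
  let σ : Spec (CommRingCat.of K) ⟶ Spec (CommRingCat.of k) := Spec.map (CommRingCat.ofHom (algebraMap k K))
  haveI : Flat σ := by
    rw [HasRingHomProperty.Spec_iff (P := @Flat)]
    exact RingHom.Flat.of_isField (Field.toIsField k) _
  haveI : Surjective σ := ⟨Function.surjective_to_subsingleton (α := Spec (CommRingCat.of K))
    (β := Spec (CommRingCat.of k)) _⟩
  let GK := Red.bc σ P
  let HK := Red.bc σ Q
  let fK : GK ⟶ HK := (Over.pullback σ).map f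
  haveI : LocallyOfFiniteType GK.hom := inferInstanceAs (LocallyOfFiniteType (pullback.snd P.hom σ))
  haveI : LocallyOfFiniteType HK.hom := inferInstanceAs (LocallyOfFiniteType (pullback.snd Q.hom σ))
  have sqf : IsPullback fK.left (pullback.fst P.hom σ) (pullback.fst Q.hom σ) f.left := by
    refine IsPullback.of_right ?_ ?_ (IsPullback.of_hasPullback Q.hom σ).flip
    · rw [Over.w f, show fK.left ≫ pullback.snd Q.hom σ = pullback.snd P.hom σ from Over.w fK]
      exact (IsPullback.of_hasPullback P.hom σ).flip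
    · exact pullback.lift_fst _ _ _
  have hfK : qa fK.left := MorphismProperty.of_isPullback (P := qa.{u}) sqf.flip hf
  haveI h := isAffineHom_algClosed fK hfK
  haveI := EtFound.fpqc_isAffineHom.{u}
  exact MorphismProperty.of_isPullback_of_descendsAlong (P := @IsAffineHom)
    (Q := @Surjective ⊓ @Flat ⊓ @QuasiCompact) sqf ⟨⟨inferInstance, inferInstance⟩, inferInstance⟩ h

end Groth.Agent.GrpdQA
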